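import Groth.Agent.FinGrpdLib.Orbit
import Groth.Agent.GrpSchLib.FinitePoints
import Groth.Agent.ChevAffine.Finite
import Groth.Agent.S7628
import Groth.Agent.Thicken.Affine
import Groth.Agent.FpqcDesc.Basic
import Groth.Prelude.Def_Red

/-!
Finite sets of points of group schemes over fields and over finite algebras lie in affine opens.
-/

set_option autoImplicit false
set_option backward.isDefEq.respectTransparency false
set_option backward.isDefEq.respectTransparency.types false
set_option linter.style.haveILetI false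

universe u

open CategoryTheory CategoryTheory.Limits AlgebraicGeometry TopologicalSpace

noncomputable section

namespace Groth.Agent.WeilFinLib

/-- The norm argument: below a finite locally free morphism, an affine open containing the fibres of
finitely many points shrinks to an affine inverse image of an open. -/
theorem exists_affine_preimage {Z X : Scheme.{u}} (p : Z ⟶ X) [IsFinite p] [Flat p]
    [LocallyOfFinitePresentation p] {E : Set X} (hE : E.Finite) {V : Z.Opens} (hV : IsAffineOpen V)
    (hVE : ⇑p ⁻¹' E ⊆ (V : Set Z)) :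
    ∃ W : X.Opens, E ⊆ (W : Set X) ∧ IsAffineOpen (p ⁻¹ᵁ W) := by
  let inner (A : Z.Opens) : X.Opens :=
    ⟨(p '' (A : Set Z)ᶜ)ᶜ, (p.isClosedMap _ A.2.isClosed_compl).isOpen_compl⟩
  have hinner : ∀ (A : Z.Opens) (x : X), x ∈ inner A ↔ ∀ z, p z = x → z ∈ A := by
    intro A x
    show x ∈ (p '' (A : Set Z)ᶜ)ᶜ ↔ _
    simp only [Set.mem_compl_iff, Set.mem_image, SetLike.mem_coe, not_exists, not_and]
    exact ⟨fun h z hz => by_contra fun hn => h z hn hz, fun h z hn hz => hn (h z hz)⟩
  have hfib : (⇑p ⁻¹' E).Finite :=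
    hE.preimage' fun x _ => IsFinite.finite_preimage_singleton p x
  haveI : Finite ↥(⇑p ⁻¹' E) := hfib.to_subtype
  obtain ⟨f, hf, hfu⟩ := FinGrpdLib.exists_basicOpen_mem hV (p ⁻¹ᵁ inner V)
    (fun y : ↥(⇑p ⁻¹' E) => (y : Z)) (fun y => hVE y.2)
    (fun y => (hinner V _).2 fun z hz => hVE (show p z ∈ E from hz ▸ y.2))
  refine ⟨inner (Z.basicOpen f), fun x hx => (hinner _ x).2 fun z hz =>
    hfu ⟨z, show p z ∈ E from hz.symm ▸ hx⟩, ?_⟩
  let s : pullback p p ⟶ Z := pullback.snd p p
  let t : pullback p p ⟶ Z := pullback.fst p p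
  haveI : IsFinite s := MorphismProperty.pullback_snd _ _ inferInstance
  haveI : Flat s := MorphismProperty.pullback_snd _ _ inferInstance
  haveI : LocallyOfFinitePresentation s := MorphismProperty.pullback_snd _ _ inferInstance
  have hst : ∀ r, p (t r) = p (s r) := fun r => by
    rw [← Scheme.Hom.comp_apply, ← Scheme.Hom.comp_apply]
    exact congrArg (fun m : pullback p p ⟶ X => m r) pullback.condition
  let D := Z.basicOpen f
  have hD : IsAffineOpen D := hV.basicOpen f
  have hDR : IsAffineOpen (s ⁻¹ᵁ D) := hD.preimage s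
  have hle : s ⁻¹ᵁ D ≤ t ⁻¹ᵁ V := fun r hr => (hinner V _).1 (hf hr) (t r) (hst r)
  let g := (t.appLE V (s ⁻¹ᵁ D) hle).hom f
  have hg : ∀ r, r ∈ (pullback p p).basicOpen g ↔ r ∈ s ⁻¹ᵁ D ∧ t r ∈ D := fun r => by
    simp only [g, Scheme.basicOpen_appLE]
    rfl
  let σ := (s.appLE D (s ⁻¹ᵁ D) le_rfl).hom
  obtain ⟨N, hN⟩ := FinGrpdLib.exists_norm_elt σ
    (by simp only [σ, Scheme.Hom.appLE_eq_app]; exact s.finite_app D hD)
    (s.flat_appLE hD hDR le_rfl)
    (HasRingHomProperty.appLE (P := @LocallyOfFinitePresentation) s inferInstance ⟨D, hD⟩ ⟨_, hDR⟩ le_rfl) g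
  suffices h : p ⁻¹ᵁ inner D = Z.basicOpen N from h ▸ hD.basicOpen N
  refine Opens.ext (Set.ext fun x => ?_)
  change p x ∈ inner D ↔ x ∈ Z.basicOpen N
  rw [hinner]
  constructor
  · intro h
    have hxD : x ∈ D := h x rfl
    by_contra hx
    rw [FinGrpdLib.mem_basicOpen_iff hD hxD] at hx
    obtain ⟨Q, hQ, hgQ⟩ := (hN (hD.primeIdealOf ⟨x, hxD⟩)).1 (not_not.1 hx)
    let r := hDR.fromSpec Q
    have hr : r ∈ s ⁻¹ᵁ D := by
      have : r ∈ Set.range hDR.fromSpec := ⟨Q, rfl⟩
      rwa [hDR.range_fromSpec] at this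
    have hrs : s r = x := by
      have e := hD.SpecMap_appLE_fromSpec s hDR (le_refl (s ⁻¹ᵁ D))
      have e' := congrArg (fun k => k Q) e
      simp only [Scheme.Hom.comp_apply] at e'
      exact e'.symm.trans ((congrArg hD.fromSpec hQ).trans (hD.fromSpec_primeIdealOf ⟨x, hxD⟩))
    have hrg : r ∈ (pullback p p).basicOpen g := (hg r).2 ⟨hr, h _ ((hst r).trans (congrArg _ hrs))⟩
    rw [← Scheme.Hom.mem_preimage, hDR.fromSpec_preimage_basicOpen] at hrg
    exact hrg hgQ
  · intro hx y hy
    obtain ⟨r, hrt, hrs⟩ := Scheme.Pullback.exists_preimage_pullback (f := p) (g := p) y x hy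
    have hr : r ∈ s ⁻¹ᵁ D := by
      show s r ∈ D
      rw [show s r = x from hrs]
      exact Z.basicOpen_le N hx
    by_contra hne
    have hQ : g ∈ (hDR.primeIdealOf ⟨r, hr⟩).asIdeal := by
      by_contra hgQ
      refine hne ?_
      have := ((hg r).1 ((FinGrpdLib.mem_basicOpen_iff hDR hr g).2 hgQ)).2
      rwa [show t r = y from hrt] at this
    have hP := (hN (hD.primeIdealOf ⟨s r, hr⟩)).2 ⟨_, IsAffineOpen.comap_primeIdealOf_appLE (f := s) D hD (s ⁻¹ᵁ D) hDR le_rfl hr, hQ⟩
    have hx' : s r ∈ Z.basicOpen N := by rw [show s r = x from hrs]; exact hx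
    rw [FinGrpdLib.mem_basicOpen_iff hD hr] at hx'
    exact hx' hP

/-- Affine opens around finite sets descend along finite locally free surjections. -/
theorem exists_affine_of_cover {Z X : Scheme.{u}} [X.IsSeparated] (p : Z ⟶ X) [IsFinite p] [Flat p]
    [LocallyOfFinitePresentation p] [Surjective p] {E : Set X} (hE : E.Finite) {V : Z.Opens}
    (hV : IsAffineOpen V) (hVE : ⇑p ⁻¹' E ⊆ (V : Set Z)) :
    ∃ W : X.Opens, IsAffineOpen W ∧ E ⊆ (W : Set X) := by
  obtain ⟨W, hEW, hW⟩ := exists_affine_preimage p hE hV hVE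
  refine ⟨W, ?_, hEW⟩
  haveI : IsAffine (p ⁻¹ᵁ W : Scheme.{u}) := hW
  haveI : Surjective (p ∣_ W) := MorphismProperty.of_isPullback (P := @Surjective) (isPullback_morphismRestrict p W).flip inferInstance
  haveI : CompactSpace (W : Scheme.{u}) :=
    ⟨(Set.range_eq_univ.2 (p ∣_ W).surjective) ▸ isCompact_range (p ∣_ W).continuous⟩
  haveI : QuasiSeparatedSpace (W : Scheme.{u}) := quasiSeparatedSpace_of_quasiSeparated W.ι
  exact ChevAffine.isAffine_of_finite_surjective (p ∣_ W)

theorem isSeparated_of_field {k : Type u} [Field k] {X : Scheme.{u}} (f : X ⟶ Spec (CommRingCat.of k))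
    [IsSeparated f] : X.IsSeparated :=
  ⟨by rw [show terminal.from X = f ≫ terminal.from _ from terminal.hom_ext _ _]; infer_instance⟩

/-- Affine opens around finite sets descend from an algebraic extension of the base field. -/
theorem exists_affine_of_algebraic {k : Type u} [Field k] {X : Scheme.{u}}
    (f : X ⟶ Spec (CommRingCat.of k)) [LocallyOfFiniteType f] [IsSeparated f]
    (K : Type u) [Field K] [Algebra k K] [Algebra.IsAlgebraic k K]
    (h : ∀ E' : Set ↥(pullback f (Spec.map (CommRingCat.ofHom (algebraMap k K)))), E'.Finite →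
      (∀ z ∈ E', IsClosed ({z} : Set _)) → ∃ V : (pullback f (Spec.map (CommRingCat.ofHom (algebraMap k K)))).Opens,
        IsAffineOpen V ∧ E' ⊆ (V : Set _))
    {E : Set X} (hE : E.Finite) (hEc : ∀ x ∈ E, IsClosed ({x} : Set X)) :
    ∃ W : X.Opens, IsAffineOpen W ∧ E ⊆ (W : Set X) := by
  haveI := isSeparated_of_field f
  let j : Spec (CommRingCat.of K) ⟶ Spec (CommRingCat.of k) := Spec.map (CommRingCat.ofHom (algebraMap k K))
  let q : pullback f j ⟶ X := pullback.fst f j
  haveI : LocallyOfFiniteType (pullback.snd f j) := MorphismProperty.pullback_snd _ _ inferInstance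
  have hfib : ∀ x ∈ E, (⇑q ⁻¹' {x}).Finite ∧ ∀ z, q z = x → IsClosed ({z} : Set ↥(pullback f j)) := by
    intro x hx
    haveI : IsClosedImmersion (X.fromSpecResidueField x) := isClosed_singleton_iff_isClosedImmersion.1 (hEc x hx)
    let i := X.fromSpecResidueField x
    haveI : IsFinite (i ≫ f) := isFinite_iff_locallyOfFiniteType_of_jacobsonSpace.2 inferInstance
    let P := pullback (i ≫ f) j
    let m : P ⟶ pullback f j := pullback.map (i ≫ f) j f j i (𝟙 _) (𝟙 _) (by simp) (by simp)
    have hm : IsPullback m (pullback.fst (i ≫ f) j) q i := by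
      refine (IsPullback.of_right ?_ (pullback.lift_fst _ _ _) (IsPullback.of_hasPullback f j).flip)
      simp only [m, pullback.lift_snd, Category.comp_id]
      exact (IsPullback.of_hasPullback (i ≫ f) j).flip
    haveI : IsClosedImmersion m := MorphismProperty.of_isPullback (P := @IsClosedImmersion) hm.flip inferInstance
    have hrange : ⇑q ⁻¹' {x} = Set.range m := by
      ext z
      constructor
      · intro hz
        obtain ⟨w, hw, -⟩ := Scheme.exists_preimage_of_isPullback hm z (IsLocalRing.closedPoint _)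
          ((Set.mem_singleton_iff.1 hz).trans (X.fromSpecResidueField_apply x _).symm)
        exact ⟨w, hw⟩
      · rintro ⟨w, rfl⟩
        show q (m w) = x
        rw [← Scheme.Hom.comp_apply, hm.w, Scheme.Hom.comp_apply]
        exact X.fromSpecResidueField_apply x _
    haveI : IsFinite (pullback.snd (i ≫ f) j) := MorphismProperty.pullback_snd _ _ inferInstance
    haveI : Finite ↥P := by
      refine Set.finite_univ_iff.1 ?_
      rw [← Set.preimage_univ (f := ⇑(pullback.snd (i ≫ f) j))]
      haveI : Subsingleton ↥(Spec (CommRingCat.of K)) := inferInstanceAs (Subsingleton (PrimeSpectrum K))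
      exact Set.finite_univ.preimage' fun y _ => IsFinite.finite_preimage_singleton _ y
    haveI : JacobsonSpace ↥P := LocallyOfFiniteType.jacobsonSpace (pullback.snd (i ≫ f) j)
    refine ⟨hrange ▸ Set.finite_range _, fun z hz => ?_⟩
    obtain ⟨w, rfl⟩ := hrange.subset hz
    rw [← Set.image_singleton]
    exact m.isClosedEmbedding.isClosedMap _ (isClosed_discrete {w})
  obtain ⟨V, hV, hEV⟩ := h (⇑q ⁻¹' E) (hE.preimage' fun x hx => (hfib x hx).1)
    (fun z hz => (hfib _ hz).2 z rfl)
  letI : X.Over (Spec (CommRingCat.of k)) := ⟨f⟩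
  have hVo : IsOpen (V : Set ↥(pullback f j)) := V.2
  have hVc : IsCompact (V : Set ↥(pullback f j)) := hV.isCompact
  obtain ⟨A', hA', V', hV'o, -, hpre⟩ := Groth.Agent.S7628.result k X K (V : Set ↥(pullback f j)) hVo hVc
  haveI : Algebra.IsIntegral k K := Algebra.IsAlgebraic.isIntegral
  letI : Field ↥A' := (A'.isField_of_algebraic).toField
  haveI : Algebra.IsIntegral k ↥A' := ⟨fun a => (isIntegral_algHom_iff A'.val Subtype.val_injective).1 (Algebra.IsIntegral.isIntegral (a : K))⟩
  haveI : Algebra.FiniteType k ↥A' := ⟨(Subalgebra.fg_top A').2 hA'⟩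
  haveI : Module.Finite k ↥A' := Algebra.IsIntegral.finite
  let jL : Spec (CommRingCat.of ↥A') ⟶ Spec (CommRingCat.of k) := Spec.map (CommRingCat.ofHom (algebraMap k ↥A'))
  let iL : Spec (CommRingCat.of K) ⟶ Spec (CommRingCat.of ↥A') := Spec.map (CommRingCat.ofHom A'.val.toRingHom)
  have hij : iL ≫ jL = j := by rw [← Spec.map_comp]; rfl
  let π : pullback f j ⟶ pullback f jL := pullback.map f j f jL (𝟙 _) iL (𝟙 _) (by simp) (by simp [hij])
  have hπ1 : π ≫ pullback.fst f jL = q := (pullback.lift_fst _ _ _).trans (Category.comp_id _)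
  have hπV := hpre π hπ1 (pullback.lift_snd _ _ _)
  let p := pullback.fst f jL
  haveI : IsFinite jL := (IsFinite.SpecMap_iff _).2 (RingHom.finite_algebraMap.2 inferInstance)
  haveI : Flat jL := (HasRingHomProperty.Spec_iff (P := @Flat)).2 (RingHom.flat_algebraMap_iff.2 inferInstance)
  haveI : LocallyOfFinitePresentation jL := (HasRingHomProperty.Spec_iff (P := @LocallyOfFinitePresentation)).2
    (RingHom.finitePresentation_algebraMap.2 (Algebra.FinitePresentation.of_finiteType.1 inferInstance))
  haveI : Surjective jL := ⟨fun y => ⟨IsLocalRing.closedPoint ↥A', Subsingleton.elim (α := PrimeSpectrum k) _ _⟩⟩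
  haveI : IsFinite p := MorphismProperty.pullback_fst _ _ inferInstance
  haveI : Flat p := MorphismProperty.pullback_fst _ _ inferInstance
  haveI : LocallyOfFinitePresentation p := MorphismProperty.pullback_fst _ _ inferInstance
  haveI : Surjective p := MorphismProperty.pullback_fst _ _ inferInstance
  let W' : (pullback f jL).Opens := ⟨V', hV'o⟩
  haveI : Surjective iL := ⟨fun y => ⟨IsLocalRing.closedPoint K, Subsingleton.elim (α := PrimeSpectrum ↥A') _ _⟩⟩
  have hπp : IsPullback π (pullback.snd f j) (pullback.snd f jL) iL := by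
    refine IsPullback.of_right ?_ (pullback.lift_snd _ _ _) (IsPullback.of_hasPullback f jL)
    rw [hπ1, hij]
    exact IsPullback.of_hasPullback f j
  haveI : Surjective π := MorphismProperty.of_isPullback (P := @Surjective) hπp.flip inferInstance
  haveI : Flat iL := (HasRingHomProperty.Spec_iff (P := @Flat)).2 (by
    letI : Algebra ↥A' K := A'.val.toRingHom.toAlgebra
    exact RingHom.flat_algebraMap_iff.2 inferInstance)
  haveI : QuasiCompact iL := inferInstance
  haveI : IsSeparated (pullback.snd f jL) := MorphismProperty.pullback_snd _ _ inferInstance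
  have hW' : IsAffineOpen W' := by
    have hpreV : π ⁻¹ᵁ W' = V := Opens.ext hπV
    have hsq : IsPullback (π ∣_ W') ((π ⁻¹ᵁ W').ι ≫ pullback.snd f j) (W'.ι ≫ pullback.snd f jL) iL :=
      ((isPullback_morphismRestrict π W').paste_vert hπp)
    haveI : IsAffine (π ⁻¹ᵁ W' : Scheme.{u}) := by rw [hpreV]; exact hV
    haveI := @Groth.Agent.FpqcDesc.isAffineHom_descends.{u}
    have h' : IsAffineHom ((π ⁻¹ᵁ W').ι ≫ pullback.snd f j) := inferInstance
    have : IsAffineHom (W'.ι ≫ pullback.snd f jL) := MorphismProperty.of_isPullback_of_descendsAlong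
      (P := @IsAffineHom) (Q := @Surjective ⊓ @Flat ⊓ @QuasiCompact) hsq.flip
      ⟨⟨inferInstance, inferInstance⟩, inferInstance⟩ h'
    exact isAffine_of_isAffineHom (W'.ι ≫ pullback.snd f jL)
  refine exists_affine_of_cover p hE hW' fun z hz => ?_
  obtain ⟨z', rfl⟩ := π.surjective z
  refine hπV.ge (hEV (show q z' ∈ E from ?_))
  rw [← hπ1, Scheme.Hom.comp_apply]
  exact hz

/-- A finite set of points of a group scheme of finite type over a field lies in an affine open. -/
theorem exists_affine_grp {k : Type u} [Field k] (G : Over (Spec (CommRingCat.of k))) [GrpObj G]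
    [LocallyOfFiniteType G.hom] {E : Set G.left} (hE : E.Finite) :
    ∃ W : G.left.Opens, IsAffineOpen W ∧ E ⊆ (W : Set G.left) := by
  haveI : IsSeparated G.hom := GrpSchLib.isSeparated_hom
  haveI := LocallyOfFiniteType.jacobsonSpace G.hom
  have hc : ∀ x ∈ E, ∃ y, IsClosed ({y} : Set G.left) ∧ x ⤳ y := by
    intro x _
    obtain ⟨y, hy, hyc⟩ := nonempty_inter_closedPoints (Z := closure ({x} : Set G.left)) ⟨x, subset_closure rfl⟩ isClosed_closure.isLocallyClosed
    exact ⟨y, hyc, specializes_iff_mem_closure.2 hy⟩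
  choose y hy hxy using hc
  let K := AlgebraicClosure k
  let j : Spec (CommRingCat.of K) ⟶ Spec (CommRingCat.of k) := Spec.map (CommRingCat.ofHom (algebraMap k K))
  letI : GrpObj (Red.bc j G) := Red.grpObj_bc j G
  haveI : LocallyOfFiniteType (Red.bc j G).hom :=
    inferInstanceAs (LocallyOfFiniteType (pullback.snd G.hom j))
  haveI : Finite ↥E := hE.to_subtype
  obtain ⟨W, hW, hEW⟩ := exists_affine_of_algebraic G.hom K (fun E' hE' hEc' => by
    haveI : Finite ↥E' := hE'.to_subtype
    obtain ⟨n, ⟨e⟩⟩ := Finite.exists_equiv_fin ↥E'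
    obtain ⟨V, hV, hgV⟩ := GrpSchLib.exists_affine_containing (G := Red.bc j G)
      (fun i => ((e.symm i).1 : (Red.bc j G).left)) (fun i => hEc' _ (e.symm i).2)
    exact ⟨V, hV, fun z hz => by simpa using hgV (e ⟨z, hz⟩)⟩)
    (E := Set.range fun x : ↥E => y x.1 x.2) (Set.finite_range _)
    (by rintro _ ⟨x, rfl⟩; exact hy _ _)
  exact ⟨W, hW, fun x hx => (hxy x hx).mem_open W.2 (hEW ⟨⟨x, hx⟩, rfl⟩)⟩

/-- A finite set of points of a group scheme of finite type over an Artinian ring lies in an affine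
open. -/
theorem exists_affine_grp_artinian {A : Type u} [CommRing A] [IsArtinianRing A]
    (G : Over (Spec (CommRingCat.of A))) [GrpObj G] [LocallyOfFiniteType G.hom]
    {E : Set G.left} (hE : E.Finite) :
    ∃ W : G.left.Opens, IsAffineOpen W ∧ E ⊆ (W : Set G.left) := by
  let S := Spec (CommRingCat.of A)
  haveI : Finite ↥S := inferInstanceAs (Finite (PrimeSpectrum A))
  haveI : DiscreteTopology ↥S := inferInstanceAs (DiscreteTopology (PrimeSpectrum A))
  have hpiece : ∀ m : ↥S, ∃ O : G.left.Opens, IsAffineOpen O ∧ (∀ x ∈ O, G.hom x = m) ∧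
      ∀ x ∈ E, G.hom x = m → x ∈ O := by
    intro m
    haveI : IsClosedImmersion (S.fromSpecResidueField m) :=
      isClosed_singleton_iff_isClosedImmersion.1 (isClosed_discrete _)
    let i : Spec (CommRingCat.of (S.residueField m)) ⟶ S := S.fromSpecResidueField m
    letI : GrpObj (Red.bc i G) := Red.grpObj_bc i G
    haveI : LocallyOfFiniteType (Red.bc i G).hom :=
      inferInstanceAs (LocallyOfFiniteType (pullback.snd G.hom i))
    let t : (Red.bc i G).left ⟶ G.left := pullback.fst G.hom i
    haveI : IsClosedImmersion t := MorphismProperty.pullback_fst _ _ inferInstance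
    obtain ⟨U, hU, hEU⟩ := exists_affine_grp (Red.bc i G) (E := ⇑t ⁻¹' E)
      (hE.preimage t.isClosedEmbedding.injective.injOn)
    have hrt : Set.range t = ⇑G.hom ⁻¹' {m} := by
      show Set.range ⇑(pullback.fst G.hom i) = _
      exact (Scheme.Pullback.range_fst _ _).trans (congrArg _ (Scheme.range_fromSpecResidueField m))
    have hopen : IsOpen (t '' (U : Set (Red.bc i G).left)) := by
      obtain ⟨O', hO', hO''⟩ := t.isClosedEmbedding.isInducing.isOpen_iff.1 U.2
      change IsOpen (t '' U.carrier)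
      rw [← hO'', Set.image_preimage_eq_inter_range, hrt]
      exact hO'.inter ((isOpen_discrete _).preimage G.hom.continuous)
    let O : G.left.Opens := ⟨_, hopen⟩
    refine ⟨O, ?_, ?_, fun x hx hxm => ?_⟩
    · have hpre : t ⁻¹ᵁ O = U :=
        Opens.ext (Set.preimage_image_eq _ t.isClosedEmbedding.injective)
      haveI : IsAffine (t ⁻¹ᵁ O : Scheme.{u}) := by rw [hpre]; exact hU
      haveI : IsClosedImmersion (t ∣_ O) :=
        MorphismProperty.of_isPullback (P := @IsClosedImmersion) (isPullback_morphismRestrict t O).flip inferInstance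
      refine Groth.Agent.Thicken.isAffine (t ∣_ O) ?_
      rintro ⟨x, z, hz, rfl⟩
      refine ⟨⟨z, z, hz, rfl⟩, Subtype.ext ?_⟩
      rw [← Scheme.Opens.ι_apply, ← Scheme.Hom.comp_apply, morphismRestrict_ι]
      rfl
    · rintro x ⟨z, -, rfl⟩
      exact hrt.subset ⟨z, rfl⟩
    · obtain ⟨z, rfl⟩ := hrt.ge hxm
      exact ⟨z, hEU hx, rfl⟩
  choose O hO hOm hOE using hpiece
  refine ⟨⨆ m, O m, IsAffineOpen.iSup_of_disjoint hO ?_, fun x hx =>
    Opens.mem_iSup.2 ⟨G.hom x, hOE _ x hx rfl⟩⟩
  intro m m' hne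
  rw [Function.onFun, disjoint_iff]
  exact Opens.ext (Set.eq_empty_iff_forall_notMem.2 fun x hx => hne ((hOm m x hx.1).symm.trans (hOm m' x hx.2)))

end Groth.Agent.WeilFinLib
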