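import Groth.Agent.HomRep.MorAF
import Groth.Prelude.Def_WeilRes

/-!
Weil restriction along a finite locally free morphism, for targets in which finite sets of points of a
fibre lie in affine opens.
-/

set_option autoImplicit false
set_option backward.isDefEq.respectTransparency false
set_option backward.isDefEq.respectTransparency.types false
set_option linter.style.haveILetI false

universe u

open CategoryTheory CategoryTheory.Limits MonoidalCategory CartesianMonoidalCategory AlgebraicGeometry Opposite

noncomputable section

namespace Groth.Agent.WeilFinLib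

open HomRep.MorS HomRep.MorAF

variable {Z X S : Scheme.{u}} (g : Z ⟶ S) (f : X ⟶ S)

/-- Composition of sections with a morphism of targets. -/
def postComp {X' : Scheme.{u}} {f' : X' ⟶ S} (b : X ⟶ X') (hb : b ≫ f' = f) {T : Over S}
    (x : (Flatn.morS g f).obj (op T)) : (Flatn.morS g f').obj (op T) :=
  x ≫ (Over.homMk b hb : Over.mk f ⟶ Over.mk f')

/-- Weil restriction along a finite locally free morphism exists under the affine-open condition. -/
theorem exists_isWeilRes {S' : Scheme.{u}} (p : S' ⟶ S) [IsFinite p] [Flat p] [LocallyOfFinitePresentation p]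
    (X' : Over S') (hAF : ∀ (s : S) (d : ℕ) (x : Fin d → ↥X'.left), (∀ k, p (X'.hom (x k)) = s) →
      ∃ U : X'.left.Opens, IsAffineOpen U ∧ ∀ k, x k ∈ U) :
    ∃ (R : Over S) (q : Red.bc p R ⟶ X'), WeilRes.IsWeilRes p X' R q := by
  let fX : X'.left ⟶ S := X'.hom ≫ p
  obtain ⟨WX, ⟨rX⟩⟩ := exists_representable p fX (fun s d x hx => hAF s d x fun k =>
    (Scheme.Hom.comp_apply X'.hom p (x k)).symm.trans (hx k))
  obtain ⟨WS, ⟨rS⟩⟩ := exists_representable p p (fun s d x hx => by
    obtain ⟨V, hV, hsV, -⟩ := exists_isAffineOpen_mem_and_subset (X := S) (x := s) (U := ⊤) trivial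
    exact ⟨p ⁻¹ᵁ V, hV.preimage p, fun k => show p (x k) ∈ V by rw [hx k]; exact hsV⟩)
  let π : WX ⟶ WS := rS.homEquiv.symm (postComp p fX X'.hom rfl (rX.homEquiv (𝟙 WX)))
  let one : (Over.mk (𝟙 S) : Over S) ⟶ WS := rS.homEquiv.symm
    (Over.homMk (pullback.snd (𝟙 S) p) rfl : (Flatn.morS p p).obj (op (Over.mk (𝟙 S))))
  let R : Over S := pullback π one
  have hπ : ∀ {T : Over S} (a : T ⟶ WX), rS.homEquiv (a ≫ π) = postComp p fX X'.hom rfl (rX.homEquiv a) := by
    intro T a
    rw [rS.homEquiv_comp, rX.homEquiv_eq a]
    simp only [π, Equiv.apply_symm_apply]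
    show (Over.map p).map ((Over.pullback p).map a) ≫ (rX.homEquiv (𝟙 WX) ≫ _) =
      ((Over.map p).map ((Over.pullback p).map a) ≫ rX.homEquiv (𝟙 WX)) ≫ _
    exact (Category.assoc _ _ _).symm
  have hone : ∀ {T : Over S} (t : T ⟶ Over.mk (𝟙 S)), (rS.homEquiv (t ≫ one)).left = pullback.snd T.hom p := by
    intro T t
    rw [rS.homEquiv_comp]
    simp only [one, Equiv.apply_symm_apply]
    show ((Over.pullback p).map t).left ≫ pullback.snd (𝟙 S) p = _
    exact pullback.lift_snd _ _ _
  have key : ∀ {T : Over S} (a : T ⟶ WX) (t : T ⟶ Over.mk (𝟙 S)), a ≫ π = t ≫ one ↔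
      (rX.homEquiv a).left ≫ X'.hom = pullback.snd T.hom p := by
    intro T a t
    rw [← rS.homEquiv.injective.eq_iff, hπ, ← hone t]
    exact ⟨fun h => congrArg CommaMorphism.left h, fun h => Over.OverMorphism.ext h⟩
  let term : ∀ T : Over S, T ⟶ Over.mk (𝟙 S) := fun T => Over.homMk T.hom (Category.comp_id _)
  let toR : ∀ {T : Over S}, (Red.bc p T ⟶ X') → (T ⟶ R) := fun {T} v =>
    pullback.lift (rX.homEquiv.symm (Over.homMk v.left (by
      show v.left ≫ X'.hom ≫ p = _
      rw [← Category.assoc, Over.w v]
      rfl) : (Flatn.morS p fX).obj (op T))) (term T) ((key _ _).2 (by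
        rw [Equiv.apply_symm_apply]
        exact Over.w v))
  let e : (WeilRes.functor p X').RepresentableBy R :=
    { homEquiv := fun {T} =>
        { toFun := fun c => Over.homMk (rX.homEquiv (c ≫ pullback.fst π one)).left
            ((key (c ≫ pullback.fst π one) (c ≫ pullback.snd π one)).1 (by
              rw [Category.assoc, pullback.condition, Category.assoc]))
          invFun := toR
          left_inv := fun c => by
            refine pullback.hom_ext ?_ (Over.OverMorphism.ext ?_)
            · refine (pullback.lift_fst _ _ _).trans ?_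
              rw [Equiv.symm_apply_eq]
              exact Over.OverMorphism.ext rfl
            · have h1 := Over.w (toR (Over.homMk (rX.homEquiv (c ≫ pullback.fst π one)).left
                ((key (c ≫ pullback.fst π one) (c ≫ pullback.snd π one)).1 (by
                  rw [Category.assoc, pullback.condition, Category.assoc])) : Red.bc p T ⟶ X') ≫ pullback.snd π one)
              have h2 := Over.w (c ≫ pullback.snd π one)
              exact (Category.comp_id _).symm.trans (h1.trans (h2.symm.trans (Category.comp_id _)))
          right_inv := fun v => by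
            refine Over.OverMorphism.ext ?_
            simp only [toR, Over.homMk_left, pullback.lift_fst, Equiv.apply_symm_apply] }
      homEquiv_comp := fun {T T'} t c => by
        refine Over.OverMorphism.ext ?_
        show (rX.homEquiv ((t ≫ c) ≫ pullback.fst π one)).left = _
        rw [Category.assoc, rX.homEquiv_comp]
        rfl }
  exact ⟨R, e.homEquiv (𝟙 R), WeilRes.IsWeilRes.of_representableBy e⟩

end Groth.Agent.WeilFinLib
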